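import Mathlib.AlgebraicGeometry.AffineSpace

/-!
# Affine space torsors over quasi-affine schemes
-/

set_option autoImplicit false
set_option linter.style.haveILetI false
universe u

open CategoryTheory Limits AlgebraicGeometry MvPolynomial

namespace Groth.Agent.H8Props.QAffTorsor

variable {W V : Scheme.{u}} {R S : CommRingCat.{u}}

/-- The ring map attached to a morphism to a spectrum. -/
noncomputable def toHom (b : W ⟶ Spec R) : R →+* Γ(W, ⊤) := ((Scheme.ΓSpecIso R).inv ≫ b.appTop).hom

theorem toHom_comp (h : V ⟶ W) (b : W ⟶ Spec R) : toHom (h ≫ b) = h.appTop.hom.comp (toHom b) := by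
  simp [toHom, RingHom.comp_assoc]

theorem toHom_comp_map (b : W ⟶ Spec R) (α : S ⟶ R) :
    toHom (b ≫ Spec.map α) = (toHom b).comp α.hom := by
  have h := Scheme.ΓSpecIso_inv_naturality α
  unfold toHom
  rw [← CommRingCat.hom_comp, Scheme.Hom.comp_appTop, ← Category.assoc, ← h, Category.assoc]

theorem toHom_ofHom (φ : R →+* Γ(W, ⊤)) :
    toHom (W.toSpecΓ ≫ Spec.map (CommRingCat.ofHom φ)) = φ := by
  unfold toHom
  rw [Scheme.Hom.comp_appTop, Scheme.toSpecΓ_appTop, ← Category.assoc,
    ← Scheme.ΓSpecIso_inv_naturality, Category.assoc, Iso.inv_hom_id, Category.comp_id]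
  rfl

theorem toHom_injective {b b' : W ⟶ Spec R} (h : toHom b = toHom b') : b = b' := by
  apply ext_of_isAffine
  exact (cancel_epi (Scheme.ΓSpecIso R).inv).1 (CommRingCat.hom_ext h)

theorem exists_toHom_eq (φ : R →+* Γ(W, ⊤)) : ∃ b : W ⟶ Spec R, toHom b = φ :=
  ⟨_, toHom_ofHom φ⟩

variable {A : Type u} [CommRing A] {n : ℕ} (f : Fin n → A)

/-- The relation cutting out the torsor. -/
noncomputable def rel : MvPolynomial (Option (Fin n)) A := ∑ i, C (f i) * X (some i) - 1

/-- The coordinate ring of the torsor. -/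
abbrev CT : Type u := MvPolynomial (Option (Fin n)) A ⧸ Ideal.span {rel f}

/-- The structure map. -/
noncomputable def str : A →+* CT f := (Ideal.Quotient.mk _).comp C

/-- The coordinates. -/
noncomputable def crd (i : Option (Fin n)) : CT f := Ideal.Quotient.mk _ (X i)

theorem sum_str_mul_crd : ∑ i, str f (f i) * crd f (some i) = 1 := by
  have h : Ideal.Quotient.mk (Ideal.span {rel f}) (rel f) = 0 :=
    Ideal.Quotient.eq_zero_iff_mem.2 (Ideal.subset_span rfl)
  rw [rel, map_sub, map_sum, map_one, sub_eq_zero] at h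
  refine Eq.trans (Finset.sum_congr rfl fun i _ => ?_) h
  rw [map_mul]; rfl

theorem exists_desc {B : Type u} [CommRing B] (φ : A →+* B) (v : Option (Fin n) → B)
    (h : ∑ i, φ (f i) * v (some i) = 1) :
    ∃ β : CT f →+* B, β.comp (str f) = φ ∧ ∀ i, β (crd f i) = v i := by
  refine ⟨Ideal.Quotient.lift _ (eval₂Hom φ v) ?_, RingHom.ext fun a => ?_, fun i => ?_⟩
  · intro a ha
    obtain ⟨c, rfl⟩ := Ideal.mem_span_singleton'.1 ha
    simp [rel, h]
  · simp [str]
  · simp [crd]

theorem hom_ext' {B : Type u} [CommRing B] {β β' : CT f →+* B} (h : β.comp (str f) = β'.comp (str f))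
    (h' : ∀ i, β (crd f i) = β' (crd f i)) : β = β' :=
  Ideal.Quotient.ringHom_ext (MvPolynomial.ringHom_ext (RingHom.congr_fun h) h')

end Groth.Agent.H8Props.QAffTorsor
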