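import Groth.Agent.H8Props.QAffTorsor.Basic
import Mathlib.AlgebraicGeometry.QuasiAffine

/-!
# Affine space torsors over quasi-affine schemes: the cartesian square
-/

set_option autoImplicit false
set_option linter.style.haveILetI false
universe u

open CategoryTheory Limits AlgebraicGeometry

namespace Groth.Agent.H8Props.QAffTorsor

variable {X : Scheme.{u}} {A : CommRingCat.{u}} (j : X ⟶ Spec A) {n : ℕ} (f : Fin n → A)

theorem range_str_subset (hf : ∀ i, (PrimeSpectrum.basicOpen (f i) : Set (PrimeSpectrum A)) ⊆ Set.range j) :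
    Set.range (Spec.map (CommRingCat.ofHom (str f)) : Spec (CommRingCat.of (CT f)) ⟶ Spec A) ⊆ Set.range j := by
  rintro _ ⟨P, rfl⟩
  by_contra hP
  refine P.isPrime.ne_top ((Ideal.eq_top_iff_one _).2 ?_)
  rw [← sum_str_mul_crd f]
  refine Ideal.sum_mem _ fun i _ => Ideal.mul_mem_right _ _ ?_
  by_contra hi
  exact hP (hf i hi)

theorem exists_vector {Y : Scheme.{u}} [IsAffine Y] (g : Y ⟶ X)
    (hcov : Set.range j ⊆ ⋃ i, (PrimeSpectrum.basicOpen (f i) : Set (PrimeSpectrum A))) :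
    ∃ a : Fin n → Γ(Y, ⊤), ∑ i, toHom (g ≫ j) (f i) * a i = 1 := by
  have hspan : Ideal.span (Set.range fun i => toHom (g ≫ j) (f i)) = ⊤ := by
    rw [← (isAffineOpen_top Y).self_le_iSup_basicOpen_iff]
    intro y _
    obtain ⟨i, hi⟩ := Set.mem_iUnion.1 (hcov ⟨g y, rfl⟩)
    refine TopologicalSpace.Opens.mem_iSup.2 ⟨⟨_, i, rfl⟩, ?_⟩
    show y ∈ Y.basicOpen ((g ≫ j).appTop ((Scheme.ΓSpecIso A).inv (f i)))
    rw [← Scheme.preimage_basicOpen_top, basicOpen_eq_of_affine']
    simp only [Iso.inv_hom_id_apply]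
    exact hi
  obtain ⟨a, ha⟩ := Ideal.mem_span_range_iff_exists_fun.1
    (show (1 : Γ(Y, ⊤)) ∈ Ideal.span (Set.range fun i => toHom (g ≫ j) (f i)) by rw [hspan]; trivial)
  exact ⟨a, (Finset.sum_congr rfl fun i _ => mul_comm _ _).trans ha⟩

theorem sum_shift {Q : Type u} [CommRing Q] (c y a : Fin n → Q) (h : ∑ i, c i * a i = 1) :
    ∑ i, c i * (y i - (∑ k, c k * y k) * a i + a i) = 1 := by
  simp only [mul_add, mul_sub, Finset.sum_add_distrib, Finset.sum_sub_distrib, mul_left_comm _ (∑ k, c k * y k),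
    ← Finset.mul_sum, h, mul_one, sub_self, zero_add]

theorem sum_shift_inv {Q : Type u} [CommRing Q] (c x a : Fin n → Q) (t : Q) (hx : ∑ i, c i * x i = 1)
    (h : ∑ i, c i * a i = 1) : ∑ i, c i * (x i - a i + t * a i) = t := by
  simp only [mul_add, mul_sub, Finset.sum_add_distrib, Finset.sum_sub_distrib, hx, h,
    mul_left_comm _ t, ← Finset.mul_sum, mul_one, sub_self, zero_add]

/-- The data on affine space identifying it with the pullback of the torsor. -/
theorem exists_shift {Q : Type u} [CommRing Q] (ψ : A →+* Q) (y a : Fin n → Q)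
    (h : ∑ i, ψ (f i) * a i = 1) :
    ∃ β : CT f →+* Q, β.comp (str f) = ψ ∧ β (crd f none) = ∑ i, ψ (f i) * y i ∧
      ∀ i, β (crd f (some i)) = y i - (∑ k, ψ (f k) * y k) * a i + a i := by
  obtain ⟨β, h1, h2⟩ := exists_desc f ψ
    (fun o => o.elim (∑ i, ψ (f i) * y i) fun i => y i - (∑ k, ψ (f k) * y k) * a i + a i)
    (sum_shift (fun i => ψ (f i)) y a h)
  exact ⟨β, h1, h2 none, fun i => h2 (some i)⟩

theorem shift_unique {Q Q' : Type u} [CommRing Q] [CommRing Q'] (m : Q →+* Q') (β : CT f →+* Q)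
    (ψ : A →+* Q) (y a : Fin n → Q) (h0 : β (crd f none) = ∑ i, ψ (f i) * y i)
    (h : ∀ i, β (crd f (some i)) = y i - (∑ k, ψ (f k) * y k) * a i + a i) (b : CT f →+* Q')
    (hb : m.comp β = b) (a' : Fin n → Q') (ha : ∀ i, m (a i) = a' i) (i : Fin n) :
    m (y i) = b (crd f (some i)) - a' i + b (crd f none) * a' i := by
  rw [← hb, RingHom.comp_apply, RingHom.comp_apply, h, h0, ← ha, ← h0, map_add, map_sub, map_mul]
  ring

theorem shift_fac {Q Q' : Type u} [CommRing Q] [CommRing Q'] (m : Q →+* Q') (β : CT f →+* Q)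
    (ψ : A →+* Q) (y a : Fin n → Q) (hβ : β.comp (str f) = ψ) (h0 : β (crd f none) = ∑ i, ψ (f i) * y i)
    (h : ∀ i, β (crd f (some i)) = y i - (∑ k, ψ (f k) * y k) * a i + a i)
    (hsum : ∑ i, ψ (f i) * a i = 1) (b : CT f →+* Q') (hψ : m.comp ψ = b.comp (str f)) (a' : Fin n → Q')
    (ha : ∀ i, m (a i) = a' i)
    (hy : ∀ i, m (y i) = b (crd f (some i)) - a' i + b (crd f none) * a' i) :
    m.comp β = b := by
  have hs : ∀ x, m (ψ x) = b (str f x) := fun x => RingHom.congr_fun hψ x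
  have ht : m (β (crd f none)) = b (crd f none) := by
    rw [h0, map_sum]
    simp only [map_mul, hy, hs]
    refine sum_shift_inv _ (fun i => b (crd f (some i))) a' _ ?_ ?_
    · simp only [← map_mul, ← map_sum, sum_str_mul_crd, map_one]
    · have := congrArg m hsum
      simpa [map_sum, ha, hs] using this
  refine hom_ext' f (by rw [RingHom.comp_assoc, hβ, hψ]) fun o => ?_
  rcases o with _ | i
  · exact ht
  · rw [RingHom.comp_apply, h, ← h0, map_add, map_sub, map_mul, hy, ht, ha]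
    ring

/-- The torsor, pulled back to an affine scheme, is affine space. -/
theorem exists_isPullback [IsOpenImmersion j] (p : Spec (CommRingCat.of (CT f)) ⟶ X)
    (hp : p ≫ j = Spec.map (CommRingCat.ofHom (str f))) {Y : Scheme.{u}} (g : Y ⟶ X)
    (a : Fin n → Γ(Y, ⊤)) (ha : ∑ i, toHom (g ≫ j) (f i) * a i = 1) :
    ∃ e : pullback g p ≅ 𝔸(ULift.{u} (Fin n); Y),
      e.hom ≫ (𝔸(ULift.{u} (Fin n); Y) ↘ Y) = pullback.fst g p := by
  let π : 𝔸(ULift.{u} (Fin n); Y) ⟶ Y := 𝔸(ULift.{u} (Fin n); Y) ↘ Y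
  let y : Fin n → Γ(𝔸(ULift.{u} (Fin n); Y), ⊤) := fun i => AffineSpace.coord Y ⟨i⟩
  have ha' : ∑ i, π.appTop.hom.comp (toHom (g ≫ j)) (f i) * π.appTop.hom (a i) = 1 := by
    have := congrArg π.appTop.hom ha
    simpa only [map_sum, map_mul, map_one, RingHom.comp_apply] using this
  obtain ⟨β, hβs, hβ0, hβc⟩ := exists_shift f _ y (fun i => π.appTop.hom (a i)) ha'
  have hcond : ∀ {W : Scheme.{u}} (b₁ : W ⟶ Y) (b₂ : W ⟶ Spec (CommRingCat.of (CT f))),
      b₁ ≫ g = b₂ ≫ p ↔ b₁.appTop.hom.comp (toHom (g ≫ j)) = (toHom b₂).comp (str f) := by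
    intro W b₁ b₂
    rw [← toHom_comp, ← cancel_mono j, Category.assoc, Category.assoc, hp]
    exact ⟨fun h => h ▸ toHom_comp_map b₂ _, fun h => toHom_injective (h.trans (toHom_comp_map b₂ _).symm)⟩
  obtain ⟨snd, hsnd⟩ := exists_toHom_eq (W := 𝔸(ULift.{u} (Fin n); Y)) (R := CommRingCat.of (CT f)) β
  have hP : IsPullback π snd g p := by
    refine ⟨⟨(hcond _ _).2 (by rw [hsnd, hβs])⟩, ⟨PullbackCone.IsLimit.mk _
      (fun s => AffineSpace.homOfVector s.fst fun i =>
        toHom s.snd (crd f (some i.down)) - s.fst.appTop.hom (a i.down) +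
          toHom s.snd (crd f none) * s.fst.appTop.hom (a i.down))
      (fun s => AffineSpace.homOfVector_over _ _) (fun s => ?_) (fun s m hm1 hm2 => ?_)⟩⟩
    · refine toHom_injective ?_
      rw [toHom_comp, hsnd]
      refine shift_fac f _ β _ y _ hβs hβ0 hβc ha' _ ?_ (fun i => s.fst.appTop.hom (a i)) (fun i => ?_)
        (fun i => AffineSpace.homOfVector_appTop_coord _ _ _)
      · rw [← RingHom.comp_assoc, ← CommRingCat.hom_comp, ← Scheme.Hom.comp_appTop,
          AffineSpace.homOfVector_over]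
        exact (hcond _ _).1 s.condition
      · rw [← RingHom.comp_apply, ← CommRingCat.hom_comp, ← Scheme.Hom.comp_appTop,
          AffineSpace.homOfVector_over]
    · refine AffineSpace.hom_ext (hm1.trans (AffineSpace.homOfVector_over _ _).symm) fun i => ?_
      rw [AffineSpace.homOfVector_appTop_coord]
      rcases i with ⟨i⟩
      refine shift_unique f m.appTop.hom β _ y _ hβ0 hβc _ (by rw [← hsnd, ← toHom_comp, hm2])
        (fun k => s.fst.appTop.hom (a k)) (fun k => ?_) i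
      rw [← RingHom.comp_apply, ← CommRingCat.hom_comp, ← Scheme.Hom.comp_appTop, hm1]
  exact ⟨hP.isoPullback.symm, hP.isoPullback_inv_fst⟩

/-- A quasi-affine scheme has an affine space torsor which is affine. -/
theorem exists_torsor [X.IsQuasiAffine] :
    ∃ (n : ℕ) (T : Scheme.{u}) (_ : IsAffine T) (p : T ⟶ X),
      ∀ (X' : Scheme.{u}) [IsAffine X'] (g : X' ⟶ X),
        ∃ e : pullback g p ≅ 𝔸(ULift.{u} (Fin n); X'),
          e.hom ≫ (𝔸(ULift.{u} (Fin n); X') ↘ X') = pullback.fst g p := by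
  classical
  let j := X.toSpecΓ
  have hK : IsCompact (Set.range j) := isCompact_range j.continuous
  obtain ⟨T, hT⟩ := hK.elim_finite_subcover
    (fun a : {a : Γ(X, ⊤) // (PrimeSpectrum.basicOpen a : Set (PrimeSpectrum Γ(X, ⊤))) ⊆ Set.range j} =>
      (PrimeSpectrum.basicOpen a.1 : Set (PrimeSpectrum Γ(X, ⊤))))
    (fun a => (PrimeSpectrum.basicOpen a.1).2) (fun x hx => by
      obtain ⟨_, ⟨_, ⟨a, rfl⟩, rfl⟩, hxa, ha⟩ := PrimeSpectrum.isBasis_basic_opens.exists_subset_of_mem_open hx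
        j.isOpenEmbedding.isOpen_range
      exact Set.mem_iUnion.2 ⟨⟨a, ha⟩, hxa⟩)
  let f : Fin T.card → Γ(X, ⊤) := fun i => (T.equivFin.symm i).1.1
  have hf : ∀ i, (PrimeSpectrum.basicOpen (f i) : Set (PrimeSpectrum Γ(X, ⊤))) ⊆ Set.range j :=
    fun i => (T.equivFin.symm i).1.2
  have hcov : Set.range j ⊆ ⋃ i, (PrimeSpectrum.basicOpen (f i) : Set (PrimeSpectrum Γ(X, ⊤))) := by
    intro x hx
    obtain ⟨a, ha, hxa⟩ := Set.mem_iUnion₂.1 (hT hx)
    refine Set.mem_iUnion.2 ⟨T.equivFin ⟨a, ha⟩, ?_⟩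
    simpa [f] using hxa
  refine ⟨T.card, Spec (CommRingCat.of (CT f)), inferInstance,
    IsOpenImmersion.lift j (Spec.map (CommRingCat.ofHom (str f))) (range_str_subset j f hf), ?_⟩
  intro X' _ g
  obtain ⟨a, ha⟩ := exists_vector j f g hcov
  exact exists_isPullback j f _ (IsOpenImmersion.lift_fac _ _ _) g a ha

end Groth.Agent.H8Props.QAffTorsor
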